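import Mathlib
import Groth.Agent.GrpArtin.Descend
import Groth.Agent.GrpArtin.Spread

/-!
A quasi-compact homomorphism of group schemes over an Artinian local ring is proper if its kernel is.
-/

set_option autoImplicit false
set_option linter.style.haveILetI false
set_option backward.isDefEq.respectTransparency false
set_option synthInstance.maxHeartbeats 200000

universe u

open CategoryTheory MonoidalCategory CartesianMonoidalCategory MonObj GrpObj AlgebraicGeometry
  Limits TopologicalSpace

namespace Groth.Agent.HomProper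

open Groth.Agent Groth.Agent.GrpArtin

/-- Properness of the self-product projection is stable under base change of the morphism. -/
theorem isProper_fst_self {X Y X' Y' : Scheme.{u}} {f : X ⟶ Y} {f' : X' ⟶ Y'} {a : X' ⟶ X} {b : Y' ⟶ Y}
    (sq : IsPullback f' a b f) (h : IsProper (pullback.fst f f)) : IsProper (pullback.fst f' f') := by
  have h1 : IsPullback (pullback.fst f' f') (pullback.snd f' f' ≫ a) (f' ≫ b) f :=
    (IsPullback.of_hasPullback f' f').paste_vert sq
  rw [sq.w] at h1
  let L := pullback.lift (pullback.fst f' f' ≫ a) (pullback.snd f' f' ≫ a)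
    (by rw [Category.assoc, h1.w, Category.assoc]) 
  have h2 : IsPullback L (pullback.fst f' f') (pullback.fst f f) a :=
    IsPullback.of_right (h₁₂ := pullback.snd f f) (v₁₃ := f) (h₂₂ := f)
      (by rw [pullback.lift_snd]; exact h1.flip) (pullback.lift_fst _ _ _) (IsPullback.of_hasPullback f f).flip
  exact MorphismProperty.of_isPullback h2 h

variable {S : Scheme.{u}} {P Q : Over S} [GrpObj P] [GrpObj Q] (f : P ⟶ Q) [IsMonHom f]

/-- The shear square `P ⊗ ker f ≅ P ×_Q P`. -/
theorem isProper_fst_of_kernel (h : IsProper (pullback.snd f.left η[Q].left)) :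
    IsProper (pullback.fst f.left f.left) := by
  let N : Over S := Over.mk (pullback.snd f.left η[Q].left ≫ (𝟙_ (Over S)).hom)
  have hw : pullback.fst f.left η[Q].left ≫ P.hom = N.hom := by
    show _ = pullback.snd f.left η[Q].left ≫ _
    rw [← Over.w f, ← Category.assoc, pullback.condition, Category.assoc, Over.w η[Q]]
  let iN : N ⟶ P := Over.homMk (pullback.fst f.left η[Q].left) hw
  have hiN : iN ≫ f = toUnit N ≫ η[Q] := by
    apply Over.OverMorphism.ext
    show pullback.fst f.left η[Q].left ≫ f.left = (toUnit N).left ≫ η[Q].left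
    rw [pullback.condition]
    congr 1
  have hlift : ∀ {Z : Over S} (v : Z ⟶ P), v ≫ f = toUnit Z ≫ η[Q] → ∃! l : Z ⟶ N, l ≫ iN = v := by
    intro Z v e
    refine ⟨Over.homMk (pullback.lift v.left (toUnit Z).left (congrArg CommaMorphism.left e))
      (by show _ ≫ pullback.snd _ _ ≫ _ = _; rw [pullback.lift_snd_assoc]; exact Over.w (toUnit Z)),
      Over.OverMorphism.ext (pullback.lift_fst _ _ _), fun l hl => ?_⟩
    apply Over.OverMorphism.ext
    apply pullback.hom_ext
    · exact (congrArg CommaMorphism.left hl).trans (pullback.lift_fst _ _ _).symm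
    · show l.left ≫ pullback.snd _ _ = pullback.lift _ _ _ ≫ pullback.snd _ _
      rw [pullback.lift_snd]
      have := Over.w l
      rw [show N.hom = pullback.snd f.left η[Q].left ≫ 𝟙 _ from rfl, Category.comp_id] at this
      exact this.trans (Category.comp_id _).symm
  let m : P ⊗ N ⟶ P := fst P N * (snd P N ≫ iN)
  have hm : fst P N ≫ f = m ≫ f := by
    simp only [m, MonObj.mul_comp, Category.assoc, hiN, comp_toUnit_assoc, ← Hom.one_def, MonObj.comp_one, _root_.mul_one]
  have key : ∀ s : PullbackCone f f, ((s.fst)⁻¹ * s.snd) ≫ f = toUnit _ ≫ η[Q] := fun s => by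
    rw [MonObj.mul_comp, GrpObj.inv_comp, s.condition, inv_mul_cancel, Hom.one_def]
  choose l hl hluniq using fun s : PullbackCone f f => hlift ((s.fst)⁻¹ * s.snd) (key s)
  have hsq : IsPullback (fst P N) m f f :=
    { w := hm
      isLimit' := ⟨PullbackCone.IsLimit.mk hm (fun s => lift s.fst (l s))
        (fun s => lift_fst _ _)
        (fun s => by simp [m, MonObj.comp_mul, hl])
        (fun s n h₁ h₂ => by
          refine CartesianMonoidalCategory.hom_ext _ _ (by rw [lift_fst]; exact h₁) ?_
          rw [lift_snd]
          refine hluniq s _ ?_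
          rw [← h₁, ← h₂]
          simp [m, MonObj.comp_mul])⟩ }
  have hsqL : IsPullback (fst P N).left m.left f.left f.left := hsq.map (Over.forget _)
  haveI : IsProper N.hom := by
    show IsProper (pullback.snd f.left η[Q].left ≫ 𝟙 _)
    rw [Category.comp_id]
    exact h
  have h1 : IsProper (fst P N).left := MorphismProperty.pullback_fst (P := @IsProper) P.hom N.hom ‹_›
  rw [← hsqL.isoPullback_inv_fst]
  exact (MorphismProperty.cancel_left_of_respectsIso @IsProper _ _).mpr h1

/-- Over an algebraically closed field. -/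
theorem isProper_of_fst_algClosed {K : Type u} [Field K] [IsAlgClosed K]
    {P Q : Over (Spec (CommRingCat.of K))} [GrpObj P] [GrpObj Q]
    [LocallyOfFiniteType P.hom] [LocallyOfFiniteType Q.hom] (f : P ⟶ Q) [IsMonHom f] [QuasiCompact f.left]
    [IsSeparated f.left] (h : IsProper (pullback.fst f.left f.left)) : IsProper f.left := by
  have := Spread.lft_left f
  refine Spread.of_exists_open f @IsProper (fun X Y g h => inferInstance) ?_
  obtain ⟨I, ιI, V₀, _, -, hne, hp, hs, hflat, hlfp⟩ := Spread.exists_generic f
  refine ⟨V₀, hne, ?_⟩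
  let fI := pullback.snd f.left ιI
  let g := fI ∣_ ιI ⁻¹ᵁ V₀
  have hg : IsPullback g ((fI ⁻¹ᵁ (ιI ⁻¹ᵁ V₀)).ι ≫ pullback.fst f.left ιI) ((ιI ⁻¹ᵁ V₀).ι ≫ ιI) f.left :=
    (isPullback_morphismRestrict fI (ιI ⁻¹ᵁ V₀)).paste_vert (IsPullback.of_hasPullback f.left ιI).flip
  have hgg := isProper_fst_self hg h
  have : QuasiCompact g := MorphismProperty.of_isPullback hg.flip ‹QuasiCompact f.left›
  have hgF : FpqcDesc.FPQC g := ⟨⟨hs, hflat⟩, ‹_›⟩
  have := FpqcDesc.descendsAlong_isProper.{u}
  have hgP : IsProper g :=
    MorphismProperty.of_isPullback_of_descendsAlong (P := @IsProper) (IsPullback.of_hasPullback g g) hgF hgg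
  have h1 : UniversallyClosed ((pullback.fst f.left ιI ≫ f.left) ∣_ V₀) := by
    have e : fI ≫ ιI = pullback.fst f.left ιI ≫ f.left := pullback.condition.symm
    have : UniversallyClosed ((fI ≫ ιI) ∣_ V₀) := by
      rw [morphismRestrict_comp]
      have : IsClosedImmersion (ιI ∣_ V₀) := IsZariskiLocalAtTarget.restrict ‹IsClosedImmersion ιI› _
      infer_instance
    exact e ▸ this
  rw [morphismRestrict_comp] at h1
  have : Surjective (pullback.fst f.left ιI ∣_ f.left ⁻¹ᵁ V₀) := IsZariskiLocalAtTarget.restrict hp _
  have : UniversallyClosed (f.left ∣_ V₀) := .of_comp_surjective (pullback.fst f.left ιI ∣_ f.left ⁻¹ᵁ V₀) _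
  have : LocallyOfFiniteType (f.left ∣_ V₀) := IsZariskiLocalAtTarget.restrict ‹LocallyOfFiniteType f.left› _
  have : IsSeparated (f.left ∣_ V₀) := IsZariskiLocalAtTarget.restrict ‹IsSeparated f.left› _
  exact {}

/-- Over an Artinian local ring, a quasi-compact homomorphism with proper kernel is proper. -/
theorem isProper_of_kernel {A : Type u} [CommRing A] [IsArtinianRing A] [IsLocalRing A]
    {G H : Over (Spec (CommRingCat.of A))} [GrpObj G] [GrpObj H] [LocallyOfFiniteType G.hom]
    [LocallyOfFiniteType H.hom] (u : G ⟶ H) [IsMonHom u] [QuasiCompact u.left]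
    (h : IsProper (pullback.snd u.left η[H].left)) : IsProper u.left := by
  have := Descend.lft_left u
  haveI : IsSeparated u.left := by
    have := Descend.isSeparated G
    have : IsSeparated (u.left ≫ H.hom) := by rw [Over.w]; infer_instance
    exact IsSeparated.of_comp u.left H.hom
  have h0 := isProper_fst_of_kernel u h
  let u₁ := Descend.bcMap (res A) u
  have sq₁ := Descend.isPullback_bcMap (res A) u
  have h1 := isProper_fst_self sq₁ h0
  have := Descend.lft_bc_res (G := G)
  have := Descend.lft_bc_res (G := H)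
  have := Descend.quasiCompact_bcMap_res u
  haveI : IsSeparated u₁.left := MorphismProperty.of_isPullback sq₁.flip ‹IsSeparated u.left›
  let u₂ := Descend.bcMap (Descend.clo (IsLocalRing.ResidueField A)) u₁
  have sq₂ := Descend.isPullback_bcMap (Descend.clo (IsLocalRing.ResidueField A)) u₁
  have h2 := isProper_fst_self sq₂ h1
  have := Descend.lft_bc (G := bc (res A) G)
  have := Descend.lft_bc (G := bc (res A) H)
  have := Descend.quasiCompact_bcMap u₁
  haveI : IsSeparated u₂.left := MorphismProperty.of_isPullback sq₂.flip ‹IsSeparated u₁.left›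
  have h3 := isProper_of_fst_algClosed u₂ h2
  have := FpqcDesc.descendsAlong_isProper.{u}
  have h4 : IsProper u₁.left :=
    MorphismProperty.of_isPullback_of_descendsAlong (P := @IsProper) sq₂ (Descend.fpqc_proj _) h3
  have : UniversallyClosed (Descend.bcMap (res A) u).left := h4.toUniversallyClosed
  have := Descend.universallyClosed_of_bcMap u
  exact {}

end Groth.Agent.HomProper
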